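import Cfsg.Agent.Lib.T2.Rf
import Cfsg.Agent.Lib.Calc.CosetFin

/-!
# Coset tables for the rotation group of type `E₇`
-/

set_option autoImplicit false
set_option maxRecDepth 1000000
set_option maxHeartbeats 0

namespace Cfsg.Lib.C2U

open Cfsg.Lib.Calc Cfsg.Lib.T2

/-- products of two commuting reflections -/
def sqW : List W := [.l 3, .l 4, .l 5, .l 6, .l 7, .mul (.inv (.l 1)) (.l 4), .mul (.inv (.l 1)) (.l 5), .mul (.inv (.l 1)) (.l 6), .mul (.inv (.l 1)) (.l 7), .mul (.inv (.l 3)) (.l 6), .mul (.inv (.l 3)) (.l 7), .mul (.inv (.l 4)) (.l 5), .mul (.inv (.l 4)) (.l 6), .mul (.inv (.l 4)) (.l 7), .mul (.inv (.l 5)) (.l 7)]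
/-- relators of order 3 -/
def cuW : List W := [.pow (.l 1) 3, .pow (.mul (.inv (.l 1)) (.l 3)) 3, .pow (.mul (.inv (.l 3)) (.l 4)) 3, .pow (.mul (.inv (.l 3)) (.l 5)) 3, .pow (.mul (.inv (.l 5)) (.l 6)) 3, .pow (.mul (.inv (.l 6)) (.l 7)) 3]
/-- the relators of the rotation group of type `E₇` -/
def rE : List W := [.l 0, .mul (.l 0) (.l 0), .mul (.l 2) (.l 1), .mul (.l 1) (.l 2)] ++ (sqW.map fun w => .mul w w) ++ cuW
/-- the generators -/
def lsE : List W := [.l 1, .l 3, .l 4, .l 5, .l 6, .l 7]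
/-- inverse letters -/
def ivE : ℕ := 247132685376
def tE0_F : Tr := .leaf (nat_lit 0xdb9b72ee5dc9b9371ee3dc3b8b72ec5d89b1361ec3d83b0b61ea3d4fa9f526a4d43a8b52684d03a0b43e87d0da1b40e62c4f99f33666ccb99730e42cc788f23e27c8d89b22e25c8388b21e03c0f81f03606c0b817015e1c0378ae2dc5bcf71ef35c6bc368ac3586b4f61ed2584b4358ad0d82acd59ab1d63acf59eb2564ac350a83d27a89492a1d23a8348aa0d02a4f41e82504a0728e80ce298b316724c49c730e70c829c330a43ca794b2965242494328a52c8590921241c0390518621c438cd11a32c458c911233c2784b09611c2384308a12ba5808f1200c0280af95f23e47ccf99f2b65786f0de0bc278ce99d2364746e8dd0ba274ce19c2344702e09c33666c6c0db0b626ccd19a1b43682d09a22e4646c8d90b22642c094330660ac1582304602a8981a635c2b8971ac358eb1d62ac5582b096328654aa1552284546a0d50a8254298912a654c899130a024ca91520a4248e91d20a2240a8151220444680d109e234e79cf21e43c2708f19a338e69ce21a4382688e198330e61cc3186308610c1161302588a21442ce51cb31462c24888390724c41892905242388909021c638c738e71cc398728e51c4304518a318e29c630a618a2946288510e21c4308610c198338670c8190308620ce11c2204408610c2084208a0941202404608c1082204c018028050080100180300400403ee7d8db1b52ea5d07a0f32664c09912f2624b85806e1de3b4770ec2da5a8b61692d65a0d51a7352698d41a43ce78cf31e234a680f21df0c627c5105f342678f01dc1be370ef1da3ba764ae1593b675cad157332658ec1d332e6488b1123aa744ea1d032663c690cf322638c818d29e530a714b29a5284604a196324650c82124188410520e4102308410a110620c3286508c118138270000000)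
def tE0_T : Tr := .leaf (nat_lit 0xdf6d74cf2c70beeb6caeaa689e69648e28607de75c6da6585d65544d24503ce34c2ca2481c61440c2040)
def tE0_P : Tr := .node (.node (.node (.leaf (nat_lit 0x1659854008142cb10a80102041421300000092742200410124d8440081c24990880103048180f000000702c22000000e04234120f0000c072541e004100e4983c0081c1c9707801030281a000140c04228120b0020b0625416004060c4982c00808189705801008200c850382400834108f048010282122090020403011020503801070191207002090321c0e0000c064101c0000408023c80c0a0041e043f8140001c087d0280002010f40500002011dc0600012023a80c0002004730180002808e20300003))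
  (.leaf (nat_lit 0x1a366690020431184ce0000066d099c00820cd9f338010399b3a67002063366cca00000642f62cba630000c32654c60041064c998c0081cc9973180103193306300000cd97b205d3080105e6f2a6100203cde4cc2004059bcb98400804c1990000a2e61b05882f80005978b5772c97400834bd8d2e8010297b1e5d002042c5d0b6000025a2a5a4a6590020e2d5ecb2004125abc96400018b57c2b8000095ae459000012b142ae512b8010715adb5db615c00034ad712b8010495ade570000628588aa0000454275349a530020f)))
  (.leaf (nat_lit 0x7c38888e47e0041a3e91c5e443f0020c1f4947e004083c1a0dc0002479171e800028f2283d000031d0c9fa331d800078ea2637000081d444760000a3a870ec0000c70327d8cc720041c38898d400018710e1c800008d85ce1178dc0003c6d0318800028da0037000031a0b9ca2f1a801070d206eb810d40003469001a800008c8582f00007193fc6600008327c0cc0000850e618800018c04cd5138c40003c60eb18800048c1d23100008183b056000062e1209c000105ce217800010b048d3128b40003058e116801040b1ca2d00206)))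
  (.node (.node (.leaf (nat_lit 0x2c710b400000542266884520001e2a6e8a40002454db14800040a9b22900005153785200006226809c000084c1e6187c4e0001c266989c0001c4cd610800010903cc70f8940083448d6673404a00016246a8940081440c8118000108838b70d8840003844cb10800038899e21000040d0643e000021e6287c008243cc10f800030797e1d000010e0595e150d80006871721b002090e2ec360000c1c5e06c000057e165a0543200416bf5c8640080d7eb70c801012fd7619002000c2f40002828aa542b02e00016160927c22150020c))
  (.leaf (nat_lit 0x7fc007fc007fc007fc007fc007fc007fc007fc007fc007fc007fc007fc007fc007fc007fc007fcdc6ce29b4de0001e6ee79bc00024ddcd37800041bb966f0000537720de000066c356e4d66d0000e3670cda0000e6ce39b400010d9c036800011a8d1b1349ac00034d5bb35801049ab7e6b00006356f0d600002683368cce690020c346db59ae34800059a36a6900205)))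
  (.leaf (nat_lit 0x152ce53000072a594a60000854b514c00008a56028800011409135249440083ca1552880003942a64b00004265449e000064ea5934000249d49268000413a9e4d0000527118920000648229340000c944092904960041e4a9fcb67c4b0000e254f4860000e4a9d12c00008913924800049226e4900008240f8820000a4423800051187d201f9140082c8d35228010111a724500201234dc8a00400421e4647a430020f214ce3f32218000710a624300004214b88600004401c0ec0002481231e80004102404100003)))
def tE0_N_0 : Tr := .node (.node (.node (.node (.leaf (nat_lit 133250))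
  (.leaf (nat_lit 198)))
  (.leaf (nat_lit 65)))
  (.node (.leaf (nat_lit 233700))
  (.leaf (nat_lit 3075))))
  (.node (.node (.node (.leaf (nat_lit 199875))
  (.leaf (nat_lit 7175)))
  (.leaf (nat_lit 34)))
  (.node (.leaf (nat_lit 137497731))
  (.leaf (nat_lit 165))))
def tE0_N_1 : Tr := .node (.node (.node (.node (.leaf (nat_lit 198850))
  (.leaf (nat_lit 231)))
  (.leaf (nat_lit 2049)))
  (.node (.leaf (nat_lit 1057))
  (.leaf (nat_lit 132))))
  (.node (.node (.node (.leaf (nat_lit 168100))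
  (.leaf (nat_lit 0)))
  (.leaf (nat_lit 99)))
  (.node (.leaf (nat_lit 206771397))
  (.leaf (nat_lit 5125))))
def tE0_N_2 : Tr := .node (.node (.node (.node (.leaf (nat_lit 166050))
  (.leaf (nat_lit 6150)))
  (.leaf (nat_lit 65)))
  (.node (.leaf (nat_lit 234725))
  (.leaf (nat_lit 132))))
  (.node (.node (.node (.leaf (nat_lit 232675))
  (.leaf (nat_lit 0)))
  (.leaf (nat_lit 1026)))
  (.node (.leaf (nat_lit 171084963))
  (.leaf (nat_lit 165))))
def tE0_N_3 : Tr := .node (.node (.node (.node (.leaf (nat_lit 231650))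
  (.leaf (nat_lit 231)))
  (.leaf (nat_lit 34)))
  (.node (.leaf (nat_lit 102860898))
  (.leaf (nat_lit 4100))))
  (.node (.node (.leaf (nat_lit 200900))
  (.leaf (nat_lit 99)))
  (.node (.leaf (nat_lit 241408230))
  (.leaf (nat_lit 198))))
def tE0_N : Tr := .node (.node tE0_N_0
  tE0_N_1)
  (.node tE0_N_2
  tE0_N_3)
noncomputable def tE0 : TC :=
  ⟨[.l 0, .l 1, .l 2, .l 3, .l 4, .l 5, .l 6, .l 7],
    (nat_lit 6), (nat_lit 9), (nat_lit 247132685376), (nat_lit 123), (nat_lit 56), (nat_lit 5), (nat_lit 32), (nat_lit 6), (nat_lit 39),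
    get (nat_lit 10) (nat_lit 0x400c0400c02010030080400c02010030080400c02010030080400c020180601806018030100401004010040100401004), Tr.get tE0_N, get (nat_lit 20) (nat_lit 0x3ff003ff003ff003ff003ff003ff003ff003ff003ff003ff003ff003ff003ff003ff003ff003ff003ff003ff003ff003ff003ff003ff003ff0001800017000160001500014000130001200011000100000f0000e0000d0000c0000b0000a00009),
    Tr.get3 tE0_F (nat_lit 22) (nat_lit 5), Tr.get3 tE0_T (nat_lit 6) (nat_lit 7), Tr.get tE0_P⟩

theorem tE0_head : tE0.headOK rE ivE = true := by decide +kernel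

theorem tE0_b0 : allFrom (nat_lit 0) (nat_lit 6) tE0.blockOK = true := by decide +kernel

def tE0_Q7 : Tr := .leaf (nat_lit 0x379bb89bada6ab57a0ca657198dc05eaf77027936bc49271328c41240f476401b8f074311b3f056291838054286a3319ac45c2e564b3532713a94472200602)
theorem tE0_f7_0 : allFrom (nat_lit 0) (nat_lit 56) (tE0.finOK (nat_lit 56) (Tr.get3 tE0_Q7 (nat_lit 9) (nat_lit 6)) (nat_lit 7)) = true := by
  decide +kernel

def tE0_Q6 : Tr := .leaf (nat_lit 0xec1b4d9b8d96a3539ec964f1d8fc2154a6512a1489650a6534864a9a10a59248f460670a178c9ecf7138b846211308840c25b2dd60b1522693692480140878)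
theorem tE0_f6_0 : allFrom (nat_lit 0) (nat_lit 56) (tE0.finOK (nat_lit 56) (Tr.get3 tE0_Q6 (nat_lit 9) (nat_lit 6)) (nat_lit 6)) = true := by
  decide +kernel

def tE0_Q5 : Tr := .leaf (nat_lit 0xeb738d66ad869b4f9ccb65cb6592b968b056b45a6b956a552e893e9c4ca7e39998d471081a3e9e8f575391b8dd0f874361e0e0695caf512613296038190076)
theorem tE0_f5_0 : allFrom (nat_lit 0) (nat_lit 56) (tE0.finOK (nat_lit 56) (Tr.get3 tE0_Q5 (nat_lit 9) (nat_lit 6)) (nat_lit 5)) = true := by
  decide +kernel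

def tE0_Q4 : Tr := .leaf (nat_lit 0xea73385be33994c6663218b158bbf5e2f36eb359eb554a4526b73c9b4f6552295c8e2506898b5e4f3740b1b4db6932996c05d2ec261107848200e46218fc74)
theorem tE0_f4_0 : allFrom (nat_lit 0) (nat_lit 56) (tE0.finOK (nat_lit 56) (Tr.get3 tE0_Q4 (nat_lit 9) (nat_lit 6)) (nat_lit 4)) = true := by
  decide +kernel

def tE0_Q3 : Tr := .leaf (nat_lit 0xe972b8c69346b35ba22f974bc5cc15daef6cb2596db52a753e85531fcc2503e8e45a211d813f9e0f181895b0d9123399ec60b8542c14542793e0904210f872)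
theorem tE0_f3_0 : allFrom (nat_lit 0) (nat_lit 56) (tE0.finOK (nat_lit 56) (Tr.get3 tE0_Q3 (nat_lit 9) (nat_lit 6)) (nat_lit 3)) = true := by
  decide +kernel

def tE0_Q1 : Tr := .leaf (nat_lit 0xe8f2783bddbebf4b9acc9832387c4df6eb73b5d86b36323d42833b224be4f218dc561f0d80be60aef76b8dbee76bb4592be5e8616aab56835400a45a0cf670)
theorem tE0_f1_0 : allFrom (nat_lit 0) (nat_lit 56) (tE0.finOK (nat_lit 56) (Tr.get3 tE0_Q1 (nat_lit 9) (nat_lit 6)) (nat_lit 1)) = true := by
  decide +kernel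

theorem tE0_blocks : ∀ t < tE0.k, tE0.blockOK t = true :=
  (of_allFrom_append of_lt_zero tE0_b0)

/-- index 56 max 56 total 56 facts 237 | needed cosets 56 facts 237 steps 608 trivial 0 -/
theorem tE0_index {G : Type*} [Group G] {γ : ℕ → G} (hL : Lab γ ivE) (hr : ∀ t ∈ rE, t.ev γ = 1) {K : Subgroup G}
    (hK : ∀ t ∈ ([.l 1, .l 3, .l 4, .l 5, .l 6] : List W), t.ev γ ∈ K) :
    K.relIndex (genW γ [.l 1, .l 3, .l 4, .l 5, .l 6, .l 7]) ≠ 0 ∧ K.relIndex (genW γ [.l 1, .l 3, .l 4, .l 5, .l 6, .l 7]) ≤ 56 :=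
  TC.relIndex_le (D := tE0) (gens := [1, 3, 4, 5, 6, 7]) hL (List.forall_mem_cons.2 ⟨hL.zero_mem K, hK⟩) hr tE0_head tE0_blocks (by decide) (by decide)
   (List.forall_mem_cons.2 ⟨⟨_, (of_allFrom_append of_lt_zero tE0_f1_0)⟩,
    List.forall_mem_cons.2 ⟨⟨_, (of_allFrom_append of_lt_zero tE0_f3_0)⟩,
    List.forall_mem_cons.2 ⟨⟨_, (of_allFrom_append of_lt_zero tE0_f4_0)⟩,
    List.forall_mem_cons.2 ⟨⟨_, (of_allFrom_append of_lt_zero tE0_f5_0)⟩,
    List.forall_mem_cons.2 ⟨⟨_, (of_allFrom_append of_lt_zero tE0_f6_0)⟩,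
    List.forall_mem_cons.2 ⟨⟨_, (of_allFrom_append of_lt_zero tE0_f7_0)⟩,
    fun _ h => absurd h List.not_mem_nil⟩⟩⟩⟩⟩⟩)

def tE1_F : Tr := .leaf (nat_lit 0x168391e47a364da2e4ba2649a2e0b826098360d835cd7258970dc57358d61d8760d856250951d4750d4551c8740d0541cc732ccb30cc530c8502c8b2248920bc522c4b10c4510c04f2bcb023c901bc700b84c2388e0b44e1b06d2308d0b04d1ac6b32ccb22c8b1282b0a8492248a324ca0a04731cc829ca80984809c4619866318c6298a61142419065310c5290a528ca330cc3308c22088208842204811846108441280a02008018060100200e858164381e0772dcb52d8b4354d3350d124c91348ce1c46e340cd33ccc2b8ab2b4aa2b0a912c291a8681a4672208521c8421883094431102318c62288a1304c000000)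
def tE1_T : Tr := .leaf (nat_lit 0x6b38bdab49ca307b9ac5a928398a418820)
def tE1_P : Tr := .node (.node (.leaf (nat_lit 0x1c6f1d000061c6d1b000011a146113190000d1a6919000061a6a19000016d146413170020b6d6717002026d691700200166b0000a125c5a5e150000b1410530f130020c146313002040e55110000010510f00207104f0f00206100a0d000000c090f000000c0647070d0000c0c4b0d002070c4d0d00206080b0000a0a064407090020b0a4b09002020a4d090020106044105070020d0649070020404023d03050020e04430500006043e0500001023b03000070239030000402370300002))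
  (.leaf (nat_lit 0x1ff001ff001ff001ff001ff001ff001ff001ff001ff001ff001ff001ff001ff001ff001ff001ff001ff001ff001ff001ff001ff001ff001ff001ff001ff001ff001ff001ff001ff001ff001ff32350000a)))
  (.leaf (nat_lit 0x3430aa31330020b34b1330020234b5330020134b33300200302ea12f310020d30ada7ac310020c30af31002042e2a972b2f0020e2ea32d000062e9e2f000012c288b292d0020e2c9d919c2d0000d2c9a2d000012a2629000072a992b000042a942b00002282225000042888290000226227d23270000c268b270020626882700000207a2500002241c711d250000e247d2500007247e1f00002221c731d230020d227e787a230000b1e742100002201a67191f0000e20771f0000720791f0000418171d00001))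
def tE1_N_0 : Tr := .node (.node (.node (.node (.leaf (nat_lit 133250))
  (.leaf (nat_lit 198)))
  (.leaf (nat_lit 65)))
  (.node (.leaf (nat_lit 233700))
  (.leaf (nat_lit 3075))))
  (.node (.node (.node (.leaf (nat_lit 199875))
  (.leaf (nat_lit 7175)))
  (.leaf (nat_lit 34)))
  (.node (.leaf (nat_lit 137497731))
  (.leaf (nat_lit 165))))
def tE1_N_1 : Tr := .node (.node (.node (.node (.leaf (nat_lit 198850))
  (.leaf (nat_lit 231)))
  (.leaf (nat_lit 2049)))
  (.node (.leaf (nat_lit 1057))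
  (.leaf (nat_lit 132))))
  (.node (.node (.node (.leaf (nat_lit 168100))
  (.leaf (nat_lit 0)))
  (.leaf (nat_lit 99)))
  (.node (.leaf (nat_lit 206771397))
  (.leaf (nat_lit 5125))))
def tE1_N_2 : Tr := .node (.node (.node (.node (.leaf (nat_lit 166050))
  (.leaf (nat_lit 6150)))
  (.leaf (nat_lit 65)))
  (.node (.leaf (nat_lit 234725))
  (.leaf (nat_lit 132))))
  (.node (.node (.node (.leaf (nat_lit 232675))
  (.leaf (nat_lit 0)))
  (.leaf (nat_lit 1026)))
  (.node (.leaf (nat_lit 171084963))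
  (.leaf (nat_lit 165))))
def tE1_N_3 : Tr := .node (.node (.node (.node (.leaf (nat_lit 231650))
  (.leaf (nat_lit 231)))
  (.leaf (nat_lit 34)))
  (.node (.leaf (nat_lit 102860898))
  (.leaf (nat_lit 4100))))
  (.node (.node (.leaf (nat_lit 200900))
  (.leaf (nat_lit 99)))
  (.node (.leaf (nat_lit 241408230))
  (.leaf (nat_lit 198))))
def tE1_N : Tr := .node (.node tE1_N_0
  tE1_N_1)
  (.node tE1_N_2
  tE1_N_3)
noncomputable def tE1 : TC :=
  ⟨[.l 0, .l 1, .l 2, .l 3, .l 4, .l 5, .l 6, .l 7],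
    (nat_lit 5), (nat_lit 8), (nat_lit 247132685376), (nat_lit 59), (nat_lit 27), (nat_lit 4), (nat_lit 32), (nat_lit 3), (nat_lit 39),
    get (nat_lit 10) (nat_lit 0x400c0400c02010030080400c02010030080400c02010030080400c020180601806018030100401004010040100401004), Tr.get tE1_N, get (nat_lit 20) (nat_lit 0x3ff003ff003ff003ff003ff003ff003ff003ff003ff003ff003ff003ff003ff003ff003ff003ff003ff003ff003ff003ff003ff003ff003ff0001800017000160001500014000130001200011000100000f0000e0000d0000c0000b0000a00009),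
    Tr.get3 tE1_F (nat_lit 20) (nat_lit 5), Tr.get3 tE1_T (nat_lit 5) (nat_lit 7), Tr.get tE1_P⟩

theorem tE1_head : tE1.headOK rE ivE = true := by decide +kernel

theorem tE1_b0 : allFrom (nat_lit 0) (nat_lit 3) tE1.blockOK = true := by decide +kernel

def tE1_Q6 : Tr := .leaf (nat_lit 0xbabbb0aea82b292a2528211f24201e70666762635850514a480302)
theorem tE1_f6_0 : allFrom (nat_lit 0) (nat_lit 27) (tE1.finOK (nat_lit 27) (Tr.get3 tE1_Q6 (nat_lit 8) (nat_lit 6)) (nat_lit 6)) = true := by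
  decide +kernel

def tE1_Q5 : Tr := .leaf (nat_lit 0xb8b9b42f2d2e2c96908a84851d1b191c1a186061564e4f4c05043c)
theorem tE1_f5_0 : allFrom (nat_lit 0) (nat_lit 27) (tE1.finOK (nat_lit 27) (Tr.get3 tE1_Q5 (nat_lit 8) (nat_lit 6)) (nat_lit 5)) = true := by
  decide +kernel

def tE1_Q4 : Tr := .leaf (nat_lit 0xb6b7b2acada2a3278e2682837c76776e6869110f0d100e0c46423a)
theorem tE1_f4_0 : allFrom (nat_lit 0) (nat_lit 27) (tE1.finOK (nat_lit 27) (Tr.get3 tE1_Q4 (nat_lit 8) (nat_lit 6)) (nat_lit 4)) = true := by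
  decide +kernel

def tE1_Q3 : Tr := .leaf (nat_lit 0xbcbd3130a6a09c989d23808122787972151314125a525307064038)
theorem tE1_f3_0 : allFrom (nat_lit 0) (nat_lit 27) (tE1.finOK (nat_lit 27) (Tr.get3 tE1_Q3 (nat_lit 8) (nat_lit 6)) (nat_lit 3)) = true := by
  decide +kernel

def tE1_Q1 : Tr := .leaf (nat_lit 0x35be32aba59f9b959389878d7f7b756c6b16655d5f0b5408453f36)
theorem tE1_f1_0 : allFrom (nat_lit 0) (nat_lit 27) (tE1.finOK (nat_lit 27) (Tr.get3 tE1_Q1 (nat_lit 8) (nat_lit 6)) (nat_lit 1)) = true := by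
  decide +kernel

theorem tE1_blocks : ∀ t < tE1.k, tE1.blockOK t = true :=
  (of_allFrom_append of_lt_zero tE1_b0)

/-- index 27 max 27 total 27 facts 96 | needed cosets 27 facts 96 steps 230 trivial 0 -/
theorem tE1_index {G : Type*} [Group G] {γ : ℕ → G} (hL : Lab γ ivE) (hr : ∀ t ∈ rE, t.ev γ = 1) {K : Subgroup G}
    (hK : ∀ t ∈ ([.l 1, .l 3, .l 4, .l 5] : List W), t.ev γ ∈ K) :
    K.relIndex (genW γ [.l 1, .l 3, .l 4, .l 5, .l 6]) ≠ 0 ∧ K.relIndex (genW γ [.l 1, .l 3, .l 4, .l 5, .l 6]) ≤ 27 :=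
  TC.relIndex_le (D := tE1) (gens := [1, 3, 4, 5, 6]) hL (List.forall_mem_cons.2 ⟨hL.zero_mem K, hK⟩) hr tE1_head tE1_blocks (by decide) (by decide)
   (List.forall_mem_cons.2 ⟨⟨_, (of_allFrom_append of_lt_zero tE1_f1_0)⟩,
    List.forall_mem_cons.2 ⟨⟨_, (of_allFrom_append of_lt_zero tE1_f3_0)⟩,
    List.forall_mem_cons.2 ⟨⟨_, (of_allFrom_append of_lt_zero tE1_f4_0)⟩,
    List.forall_mem_cons.2 ⟨⟨_, (of_allFrom_append of_lt_zero tE1_f5_0)⟩,
    List.forall_mem_cons.2 ⟨⟨_, (of_allFrom_append of_lt_zero tE1_f6_0)⟩,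
    fun _ h => absurd h List.not_mem_nil⟩⟩⟩⟩⟩)

def tE2_F : Tr := .leaf (nat_lit 0x7e3f2f97c3e2f2f1783c2e0e8ac9a4d0e0b4763c25930362c1d0e8944a148683228241242e262b15c2a270b0946a352a9544813198d0a654291488241088848040180c04010279387c3d2e968b8592d96054181c8dc7036239108c43229082822118486431289400000)
def tE2_T : Tr := .leaf (nat_lit 0xfedcba9876543210)
def tE2_P : Tr := .leaf (nat_lit 0x7fc007fc007fc007fcf1ca274f800061eae7c00818f543e0000070d47367400834e529938e80005962a6c00004d45360000c6a199000013049d912e0001a61f97000063100b80000c324f08950020b86fca8010014820001441b34704c0002c90e5e348801060c623c0000072d1a0040c3840b00000141c6800000a08a428b0000c14ac580103061200014202260a1c0082c42b0e0040210123061400834125060000c0908300001)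
def tE2_N_0 : Tr := .node (.node (.node (.node (.leaf (nat_lit 133250))
  (.leaf (nat_lit 198)))
  (.leaf (nat_lit 65)))
  (.node (.leaf (nat_lit 233700))
  (.leaf (nat_lit 3075))))
  (.node (.node (.node (.leaf (nat_lit 199875))
  (.leaf (nat_lit 7175)))
  (.leaf (nat_lit 34)))
  (.node (.leaf (nat_lit 137497731))
  (.leaf (nat_lit 165))))
def tE2_N_1 : Tr := .node (.node (.node (.node (.leaf (nat_lit 198850))
  (.leaf (nat_lit 231)))
  (.leaf (nat_lit 2049)))
  (.node (.leaf (nat_lit 1057))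
  (.leaf (nat_lit 132))))
  (.node (.node (.node (.leaf (nat_lit 168100))
  (.leaf (nat_lit 0)))
  (.leaf (nat_lit 99)))
  (.node (.leaf (nat_lit 206771397))
  (.leaf (nat_lit 5125))))
def tE2_N_2 : Tr := .node (.node (.node (.node (.leaf (nat_lit 166050))
  (.leaf (nat_lit 6150)))
  (.leaf (nat_lit 65)))
  (.node (.leaf (nat_lit 234725))
  (.leaf (nat_lit 132))))
  (.node (.node (.node (.leaf (nat_lit 232675))
  (.leaf (nat_lit 0)))
  (.leaf (nat_lit 1026)))
  (.node (.leaf (nat_lit 171084963))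
  (.leaf (nat_lit 165))))
def tE2_N_3 : Tr := .node (.node (.node (.node (.leaf (nat_lit 231650))
  (.leaf (nat_lit 231)))
  (.leaf (nat_lit 34)))
  (.node (.leaf (nat_lit 102860898))
  (.leaf (nat_lit 4100))))
  (.node (.node (.leaf (nat_lit 200900))
  (.leaf (nat_lit 99)))
  (.node (.leaf (nat_lit 241408230))
  (.leaf (nat_lit 198))))
def tE2_N : Tr := .node (.node tE2_N_0
  tE2_N_1)
  (.node tE2_N_2
  tE2_N_3)
noncomputable def tE2 : TC :=
  ⟨[.l 0, .l 1, .l 2, .l 3, .l 4, .l 5, .l 6, .l 7],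
    (nat_lit 4), (nat_lit 7), (nat_lit 247132685376), (nat_lit 27), (nat_lit 16), (nat_lit 3), (nat_lit 32), (nat_lit 1), (nat_lit 39),
    get (nat_lit 10) (nat_lit 0x400c0400c02010030080400c02010030080400c02010030080400c020180601806018030100401004010040100401004), Tr.get tE2_N, get (nat_lit 20) (nat_lit 0x3ff003ff003ff003ff003ff003ff003ff003ff003ff003ff003ff003ff003ff003ff003ff003ff003ff003ff003ff003ff003ff003ff003ff0001800017000160001500014000130001200011000100000f0000e0000d0000c0000b0000a00009),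
    Tr.get3 tE2_F (nat_lit 18) (nat_lit 5), Tr.get3 tE2_T (nat_lit 4) (nat_lit 7), Tr.get tE2_P⟩

theorem tE2_head : tE2.headOK rE ivE = true := by decide +kernel

theorem tE2_b0 : allFrom (nat_lit 0) (nat_lit 1) tE2.blockOK = true := by decide +kernel

def tE2_Q5 : Tr := .leaf (nat_lit 0xb558d992e68c1674ed92c5aa8182)
theorem tE2_f5_0 : allFrom (nat_lit 0) (nat_lit 16) (tE2.finOK (nat_lit 16) (Tr.get3 tE2_Q5 (nat_lit 7) (nat_lit 7)) (nat_lit 5)) = true := by
  decide +kernel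

def tE2_Q4 : Tr := .leaf (nat_lit 0x3e7a84a9711f3f1e3458e1829424)
theorem tE2_f4_0 : allFrom (nat_lit 0) (nat_lit 16) (tE2.finOK (nat_lit 16) (Tr.get3 tE2_Q4 (nat_lit 7) (nat_lit 7)) (nat_lit 4)) = true := by
  decide +kernel

def tE2_Q3 : Tr := .leaf (nat_lit 0xb874e4c9b189912441a2e5e14222)
theorem tE2_f3_0 : allFrom (nat_lit 0) (nat_lit 16) (tE2.finOK (nat_lit 16) (Tr.get3 tE2_Q3 (nat_lit 7) (nat_lit 7)) (nat_lit 3)) = true := by
  decide +kernel

def tE2_Q1 : Tr := .leaf (nat_lit 0xb3569cf930a0947addc8960193a0)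
theorem tE2_f1_0 : allFrom (nat_lit 0) (nat_lit 16) (tE2.finOK (nat_lit 16) (Tr.get3 tE2_Q1 (nat_lit 7) (nat_lit 7)) (nat_lit 1)) = true := by
  decide +kernel

theorem tE2_blocks : ∀ t < tE2.k, tE2.blockOK t = true :=
  (of_allFrom_append of_lt_zero tE2_b0)

/-- index 16 max 16 total 16 facts 47 | needed cosets 16 facts 47 steps 102 trivial 0 -/
theorem tE2_index {G : Type*} [Group G] {γ : ℕ → G} (hL : Lab γ ivE) (hr : ∀ t ∈ rE, t.ev γ = 1) {K : Subgroup G}
    (hK : ∀ t ∈ ([.l 1, .l 3, .l 4] : List W), t.ev γ ∈ K) :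
    K.relIndex (genW γ [.l 1, .l 3, .l 4, .l 5]) ≠ 0 ∧ K.relIndex (genW γ [.l 1, .l 3, .l 4, .l 5]) ≤ 16 :=
  TC.relIndex_le (D := tE2) (gens := [1, 3, 4, 5]) hL (List.forall_mem_cons.2 ⟨hL.zero_mem K, hK⟩) hr tE2_head tE2_blocks (by decide) (by decide)
   (List.forall_mem_cons.2 ⟨⟨_, (of_allFrom_append of_lt_zero tE2_f1_0)⟩,
    List.forall_mem_cons.2 ⟨⟨_, (of_allFrom_append of_lt_zero tE2_f3_0)⟩,
    List.forall_mem_cons.2 ⟨⟨_, (of_allFrom_append of_lt_zero tE2_f4_0)⟩,
    List.forall_mem_cons.2 ⟨⟨_, (of_allFrom_append of_lt_zero tE2_f5_0)⟩,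
    fun _ h => absurd h List.not_mem_nil⟩⟩⟩⟩)

def tE3_F : Tr := .leaf (nat_lit 0x140b1b1c232422220911181810080c12130a1a1921200000)
def tE3_T : Tr := .leaf (nat_lit 18056)
def tE3_P : Tr := .leaf (nat_lit 0x7fc007fc007fc007fc007fc007fc007fc007fc007fc007fc007fc007fc007fc007fc007fc007fc007fc007fc007fc007fc007fc007fc007fc007fc007fc007fc007fc3090000a10107050e00416208870020008086830a004180858300000)
def tE3_N_0 : Tr := .node (.node (.node (.node (.leaf (nat_lit 133250))
  (.leaf (nat_lit 198)))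
  (.leaf (nat_lit 65)))
  (.node (.leaf (nat_lit 233700))
  (.leaf (nat_lit 3075))))
  (.node (.node (.node (.leaf (nat_lit 199875))
  (.leaf (nat_lit 7175)))
  (.leaf (nat_lit 34)))
  (.node (.leaf (nat_lit 137497731))
  (.leaf (nat_lit 165))))
def tE3_N_1 : Tr := .node (.node (.node (.node (.leaf (nat_lit 198850))
  (.leaf (nat_lit 231)))
  (.leaf (nat_lit 2049)))
  (.node (.leaf (nat_lit 1057))
  (.leaf (nat_lit 132))))
  (.node (.node (.node (.leaf (nat_lit 168100))
  (.leaf (nat_lit 0)))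
  (.leaf (nat_lit 99)))
  (.node (.leaf (nat_lit 206771397))
  (.leaf (nat_lit 5125))))
def tE3_N_2 : Tr := .node (.node (.node (.node (.leaf (nat_lit 166050))
  (.leaf (nat_lit 6150)))
  (.leaf (nat_lit 65)))
  (.node (.leaf (nat_lit 234725))
  (.leaf (nat_lit 132))))
  (.node (.node (.node (.leaf (nat_lit 232675))
  (.leaf (nat_lit 0)))
  (.leaf (nat_lit 1026)))
  (.node (.leaf (nat_lit 171084963))
  (.leaf (nat_lit 165))))
def tE3_N_3 : Tr := .node (.node (.node (.node (.leaf (nat_lit 231650))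
  (.leaf (nat_lit 231)))
  (.leaf (nat_lit 34)))
  (.node (.leaf (nat_lit 102860898))
  (.leaf (nat_lit 4100))))
  (.node (.node (.leaf (nat_lit 200900))
  (.leaf (nat_lit 99)))
  (.node (.leaf (nat_lit 241408230))
  (.leaf (nat_lit 198))))
def tE3_N : Tr := .node (.node tE3_N_0
  tE3_N_1)
  (.node tE3_N_2
  tE3_N_3)
noncomputable def tE3 : TC :=
  ⟨[.l 0, .l 1, .l 2, .l 3, .l 4, .l 5, .l 6, .l 7],
    (nat_lit 3), (nat_lit 7), (nat_lit 247132685376), (nat_lit 11), (nat_lit 5), (nat_lit 2), (nat_lit 32), (nat_lit 1), (nat_lit 39),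
    get (nat_lit 10) (nat_lit 0x400c0400c02010030080400c02010030080400c02010030080400c020180601806018030100401004010040100401004), Tr.get tE3_N, get (nat_lit 20) (nat_lit 0x3ff003ff003ff003ff003ff003ff003ff003ff003ff003ff003ff003ff003ff003ff003ff003ff003ff003ff003ff003ff003ff003ff003ff0001800017000160001500014000130001200011000100000f0000e0000d0000c0000b0000a00009),
    Tr.get3 tE3_F (nat_lit 16) (nat_lit 5), Tr.get3 tE3_T (nat_lit 3) (nat_lit 8), Tr.get tE3_P⟩

theorem tE3_head : tE3.headOK rE ivE = true := by decide +kernel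

theorem tE3_b0 : allFrom (nat_lit 0) (nat_lit 1) tE3.blockOK = true := by decide +kernel

def tE3_Q4 : Tr := .leaf (nat_lit 19513442)
theorem tE3_f4_0 : allFrom (nat_lit 0) (nat_lit 5) (tE3.finOK (nat_lit 5) (Tr.get3 tE3_Q4 (nat_lit 5) (nat_lit 7)) (nat_lit 4)) = true := by
  decide +kernel

def tE3_Q3 : Tr := .leaf (nat_lit 21664908)
theorem tE3_f3_0 : allFrom (nat_lit 0) (nat_lit 5) (tE3.finOK (nat_lit 5) (Tr.get3 tE3_Q3 (nat_lit 5) (nat_lit 7)) (nat_lit 3)) = true := by
  decide +kernel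

def tE3_Q1 : Tr := .leaf (nat_lit 10164714)
theorem tE3_f1_0 : allFrom (nat_lit 0) (nat_lit 5) (tE3.finOK (nat_lit 5) (Tr.get3 tE3_Q1 (nat_lit 5) (nat_lit 7)) (nat_lit 1)) = true := by
  decide +kernel

theorem tE3_blocks : ∀ t < tE3.k, tE3.blockOK t = true :=
  (of_allFrom_append of_lt_zero tE3_b0)

/-- index 5 max 5 total 5 facts 12 | needed cosets 5 facts 12 steps 18 trivial 0 -/
theorem tE3_index {G : Type*} [Group G] {γ : ℕ → G} (hL : Lab γ ivE) (hr : ∀ t ∈ rE, t.ev γ = 1) {K : Subgroup G}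
    (hK : ∀ t ∈ ([.l 1, .l 3] : List W), t.ev γ ∈ K) :
    K.relIndex (genW γ [.l 1, .l 3, .l 4]) ≠ 0 ∧ K.relIndex (genW γ [.l 1, .l 3, .l 4]) ≤ 5 :=
  TC.relIndex_le (D := tE3) (gens := [1, 3, 4]) hL (List.forall_mem_cons.2 ⟨hL.zero_mem K, hK⟩) hr tE3_head tE3_blocks (by decide) (by decide)
   (List.forall_mem_cons.2 ⟨⟨_, (of_allFrom_append of_lt_zero tE3_f1_0)⟩,
    List.forall_mem_cons.2 ⟨⟨_, (of_allFrom_append of_lt_zero tE3_f3_0)⟩,
    List.forall_mem_cons.2 ⟨⟨_, (of_allFrom_append of_lt_zero tE3_f4_0)⟩,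
    fun _ h => absurd h List.not_mem_nil⟩⟩⟩)

def tE4_F : Tr := .leaf (nat_lit 0x5861c3c4040e245051a30000)
def tE4_T : Tr := .leaf (nat_lit 228)
def tE4_P : Tr := .leaf (nat_lit 0x3fe003fe003fe003fe003fe003fe003fe003fe003fe003fe003fe003fe003fe003fe003fe003fe003fe003fe003fe003fe003fe003fe003fe003fe003fe003fe003fe003fe003fe003fe103800050604241850020b)
def tE4_N_0 : Tr := .node (.node (.node (.node (.leaf (nat_lit 133250))
  (.leaf (nat_lit 198)))
  (.leaf (nat_lit 65)))
  (.node (.leaf (nat_lit 233700))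
  (.leaf (nat_lit 3075))))
  (.node (.node (.node (.leaf (nat_lit 199875))
  (.leaf (nat_lit 7175)))
  (.leaf (nat_lit 34)))
  (.node (.leaf (nat_lit 137497731))
  (.leaf (nat_lit 165))))
def tE4_N_1 : Tr := .node (.node (.node (.node (.leaf (nat_lit 198850))
  (.leaf (nat_lit 231)))
  (.leaf (nat_lit 2049)))
  (.node (.leaf (nat_lit 1057))
  (.leaf (nat_lit 132))))
  (.node (.node (.node (.leaf (nat_lit 168100))
  (.leaf (nat_lit 0)))
  (.leaf (nat_lit 99)))
  (.node (.leaf (nat_lit 206771397))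
  (.leaf (nat_lit 5125))))
def tE4_N_2 : Tr := .node (.node (.node (.node (.leaf (nat_lit 166050))
  (.leaf (nat_lit 6150)))
  (.leaf (nat_lit 65)))
  (.node (.leaf (nat_lit 234725))
  (.leaf (nat_lit 132))))
  (.node (.node (.node (.leaf (nat_lit 232675))
  (.leaf (nat_lit 0)))
  (.leaf (nat_lit 1026)))
  (.node (.leaf (nat_lit 171084963))
  (.leaf (nat_lit 165))))
def tE4_N_3 : Tr := .node (.node (.node (.node (.leaf (nat_lit 231650))
  (.leaf (nat_lit 231)))
  (.leaf (nat_lit 34)))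
  (.node (.leaf (nat_lit 102860898))
  (.leaf (nat_lit 4100))))
  (.node (.node (.leaf (nat_lit 200900))
  (.leaf (nat_lit 99)))
  (.node (.leaf (nat_lit 241408230))
  (.leaf (nat_lit 198))))
def tE4_N : Tr := .node (.node tE4_N_0
  tE4_N_1)
  (.node tE4_N_2
  tE4_N_3)
noncomputable def tE4 : TC :=
  ⟨[.l 0, .l 1, .l 2, .l 3, .l 4, .l 5, .l 6, .l 7],
    (nat_lit 2), (nat_lit 7), (nat_lit 247132685376), (nat_lit 3), (nat_lit 4), (nat_lit 1), (nat_lit 32), (nat_lit 1), (nat_lit 39),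
    get (nat_lit 10) (nat_lit 0x400c0400c02010030080400c02010030080400c02010030080400c020180601806018030100401004010040100401004), Tr.get tE4_N, get (nat_lit 20) (nat_lit 0x3ff003ff003ff003ff003ff003ff003ff003ff003ff003ff003ff003ff003ff003ff003ff003ff003ff003ff003ff003ff003ff003ff003ff0001800017000160001500014000130001200011000100000f0000e0000d0000c0000b0000a00009),
    Tr.get3 tE4_F (nat_lit 14) (nat_lit 6), Tr.get3 tE4_T (nat_lit 2) (nat_lit 8), Tr.get tE4_P⟩

theorem tE4_head : tE4.headOK rE ivE = true := by decide +kernel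

theorem tE4_b0 : allFrom (nat_lit 0) (nat_lit 1) tE4.blockOK = true := by decide +kernel

def tE4_Q3 : Tr := .leaf (nat_lit 43826)
theorem tE4_f3_0 : allFrom (nat_lit 0) (nat_lit 4) (tE4.finOK (nat_lit 4) (Tr.get3 tE4_Q3 (nat_lit 4) (nat_lit 7)) (nat_lit 3)) = true := by
  decide +kernel

def tE4_Q1 : Tr := .leaf (nat_lit 31816)
theorem tE4_f1_0 : allFrom (nat_lit 0) (nat_lit 4) (tE4.finOK (nat_lit 4) (Tr.get3 tE4_Q1 (nat_lit 4) (nat_lit 7)) (nat_lit 1)) = true := by
  decide +kernel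

theorem tE4_blocks : ∀ t < tE4.k, tE4.blockOK t = true :=
  (of_allFrom_append of_lt_zero tE4_b0)

/-- index 4 max 4 total 4 facts 7 | needed cosets 4 facts 7 steps 7 trivial 0 -/
theorem tE4_index {G : Type*} [Group G] {γ : ℕ → G} (hL : Lab γ ivE) (hr : ∀ t ∈ rE, t.ev γ = 1) {K : Subgroup G}
    (hK : ∀ t ∈ ([.l 1] : List W), t.ev γ ∈ K) :
    K.relIndex (genW γ [.l 1, .l 3]) ≠ 0 ∧ K.relIndex (genW γ [.l 1, .l 3]) ≤ 4 :=
  TC.relIndex_le (D := tE4) (gens := [1, 3]) hL (List.forall_mem_cons.2 ⟨hL.zero_mem K, hK⟩) hr tE4_head tE4_blocks (by decide) (by decide)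
   (List.forall_mem_cons.2 ⟨⟨_, (of_allFrom_append of_lt_zero tE4_f1_0)⟩,
    List.forall_mem_cons.2 ⟨⟨_, (of_allFrom_append of_lt_zero tE4_f3_0)⟩,
    fun _ h => absurd h List.not_mem_nil⟩⟩)

def tE5_F : Tr := .leaf (nat_lit 0x14143081210000)
def tE5_T : Tr := .leaf (nat_lit 36)
def tE5_P : Tr := .leaf (nat_lit 0x7fc007fc007fc007fc007fc007fc007fc007fc007fc007fc007fc007fc007fc007fc007fc007fc007fc007fc007fc007fc007fc007fc007fc007fc007fc007fc007fc007fc007fc007fc007fc1050000a)
def tE5_N_0 : Tr := .node (.node (.node (.node (.leaf (nat_lit 133250))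
  (.leaf (nat_lit 198)))
  (.leaf (nat_lit 65)))
  (.node (.leaf (nat_lit 233700))
  (.leaf (nat_lit 3075))))
  (.node (.node (.node (.leaf (nat_lit 199875))
  (.leaf (nat_lit 7175)))
  (.leaf (nat_lit 34)))
  (.node (.leaf (nat_lit 137497731))
  (.leaf (nat_lit 165))))
def tE5_N_1 : Tr := .node (.node (.node (.node (.leaf (nat_lit 198850))
  (.leaf (nat_lit 231)))
  (.leaf (nat_lit 2049)))
  (.node (.leaf (nat_lit 1057))
  (.leaf (nat_lit 132))))
  (.node (.node (.node (.leaf (nat_lit 168100))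
  (.leaf (nat_lit 0)))
  (.leaf (nat_lit 99)))
  (.node (.leaf (nat_lit 206771397))
  (.leaf (nat_lit 5125))))
def tE5_N_2 : Tr := .node (.node (.node (.node (.leaf (nat_lit 166050))
  (.leaf (nat_lit 6150)))
  (.leaf (nat_lit 65)))
  (.node (.leaf (nat_lit 234725))
  (.leaf (nat_lit 132))))
  (.node (.node (.node (.leaf (nat_lit 232675))
  (.leaf (nat_lit 0)))
  (.leaf (nat_lit 1026)))
  (.node (.leaf (nat_lit 171084963))
  (.leaf (nat_lit 165))))
def tE5_N_3 : Tr := .node (.node (.node (.node (.leaf (nat_lit 231650))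
  (.leaf (nat_lit 231)))
  (.leaf (nat_lit 34)))
  (.node (.leaf (nat_lit 102860898))
  (.leaf (nat_lit 4100))))
  (.node (.node (.leaf (nat_lit 200900))
  (.leaf (nat_lit 99)))
  (.node (.leaf (nat_lit 241408230))
  (.leaf (nat_lit 198))))
def tE5_N : Tr := .node (.node tE5_N_0
  tE5_N_1)
  (.node tE5_N_2
  tE5_N_3)
noncomputable def tE5 : TC :=
  ⟨[.l 0, .l 1, .l 2, .l 3, .l 4, .l 5, .l 6, .l 7],
    (nat_lit 2), (nat_lit 7), (nat_lit 247132685376), (nat_lit 1), (nat_lit 3), (nat_lit 0), (nat_lit 32), (nat_lit 1), (nat_lit 39),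
    get (nat_lit 10) (nat_lit 0x400c0400c02010030080400c02010030080400c02010030080400c020180601806018030100401004010040100401004), Tr.get tE5_N, get (nat_lit 20) (nat_lit 0x3ff003ff003ff003ff003ff003ff003ff003ff003ff003ff003ff003ff003ff003ff003ff003ff003ff003ff003ff003ff003ff003ff003ff0001800017000160001500014000130001200011000100000f0000e0000d0000c0000b0000a00009),
    Tr.get3 tE5_F (nat_lit 14) (nat_lit 6), Tr.get3 tE5_T (nat_lit 2) (nat_lit 8), Tr.get tE5_P⟩

theorem tE5_head : tE5.headOK rE ivE = true := by decide +kernel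

theorem tE5_b0 : allFrom (nat_lit 0) (nat_lit 1) tE5.blockOK = true := by decide +kernel

def tE5_Q1 : Tr := .leaf (nat_lit 370)
theorem tE5_f1_0 : allFrom (nat_lit 0) (nat_lit 3) (tE5.finOK (nat_lit 3) (Tr.get3 tE5_Q1 (nat_lit 3) (nat_lit 8)) (nat_lit 1)) = true := by
  decide +kernel

theorem tE5_blocks : ∀ t < tE5.k, tE5.blockOK t = true :=
  (of_allFrom_append of_lt_zero tE5_b0)

/-- index 3 max 3 total 3 facts 4 | needed cosets 3 facts 4 steps 2 trivial 0 -/
theorem tE5_index {G : Type*} [Group G] {γ : ℕ → G} (hL : Lab γ ivE) (hr : ∀ t ∈ rE, t.ev γ = 1) {K : Subgroup G}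
    (hK : ∀ t ∈ ([] : List W), t.ev γ ∈ K) :
    K.relIndex (genW γ [.l 1]) ≠ 0 ∧ K.relIndex (genW γ [.l 1]) ≤ 3 :=
  TC.relIndex_le (D := tE5) (gens := [1]) hL (List.forall_mem_cons.2 ⟨hL.zero_mem K, hK⟩) hr tE5_head tE5_blocks (by decide) (by decide)
   (List.forall_mem_cons.2 ⟨⟨_, (of_allFrom_append of_lt_zero tE5_f1_0)⟩,
    fun _ h => absurd h List.not_mem_nil⟩)

theorem tcE {X : Type*} [Group X] (δ : ℕ → X) (h0 : δ 0 = 1) (h : ∀ t ∈ rE, t.ev δ = 1) :
    Nat.card (genW δ lsE) ≤ 1451520 := by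
  have hL : Lab (newLet δ ((List.range 8).map .l)) ivE := Lab.newLet h0 (by decide) (rels_of_isIn h (by decide +kernel))
  have hr := (rels_fix (labs := (List.range 8).map .l) (by decide +kernel)).2 h
  rw [← genW_fix (labs := (List.range 8).map .l) (by decide +kernel)]
  exact (card_le_of_relIndex (genW_mono _ (by simp)) (tE0_index hL hr fun _ => mem_genW _)
    (card_le_of_relIndex (genW_mono _ (by simp)) (tE1_index hL hr fun _ => mem_genW _)
    (card_le_of_relIndex (genW_mono _ (by simp)) (tE2_index hL hr fun _ => mem_genW _)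
    (card_le_of_relIndex (genW_mono _ (by simp)) (tE3_index hL hr fun _ => mem_genW _)
    (card_le_of_relIndex (genW_mono _ (by simp)) (tE4_index hL hr fun _ => mem_genW _)
    (card_le_of_relIndex bot_le (tE5_index hL hr (by simp)) card_bot_le)))))).2

end Cfsg.Lib.C2U
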